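import Groth.Agent.Lib.RDerLES.LES
import Mathlib.AlgebraicTopology.AlternatingFaceMapComplex
import Mathlib.Algebra.Homology.HomologySequence
import Mathlib.Algebra.Homology.HomologicalComplexAbelian
import Mathlib.CategoryTheory.Abelian.RightDerived
import Mathlib.CategoryTheory.Abelian.Refinements
import Mathlib.CategoryTheory.Abelian.FunctorCategory

/-!
# Derived limits of cosimplicial objects

In an abelian category with countable products the right derived functors of the limit over the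
simplex category are computed by the alternating coface complex.
-/

universe v u

set_option backward.isDefEq.respectTransparency false

open CategoryTheory Limits Simplicial AlgebraicTopology Opposite

namespace GrothLib.CosimpLim25

variable {A : Type u} [Category.{v} A] [Abelian A]

/-- The coface complex. -/
noncomputable abbrev cx (F : SimplexCategory ⥤ A) : CochainComplex A ℕ :=
  (alternatingCofaceMapComplex A).obj F

theorem cx_d (F : SimplexCategory ⥤ A) (n : ℕ) :
    (cx F).d n (n + 1) = ∑ i : Fin (n + 2), (-1 : ℤ) ^ (i : ℕ) • F.map (SimplexCategory.δ i) := by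
  change CochainComplex.of.d (fun n => F.obj ⦋n⦌) (AlternatingCofaceMapComplex.objD F) n (n + 1) = _
  rw [CochainComplex.of_d]
  rfl

section Cofree

variable [∀ n : SimplexCategory, HasProductsOfShape (Σ k : ℕ, (n ⟶ ⦋k⦌)) A] (I : SimplexCategory ⥤ A)

/-- A coordinate of the cofree object. -/
noncomputable abbrev pr {n : SimplexCategory} {k : ℕ} (h : n ⟶ ⦋k⦌) :
    (∏ᶜ fun p : Σ k : ℕ, (n ⟶ ⦋k⦌) => I.obj ⦋p.1⦌) ⟶ I.obj ⦋k⦌ :=
  Pi.π (fun p : Σ k : ℕ, (n ⟶ ⦋k⦌) => I.obj ⦋p.1⦌) ⟨k, h⟩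

/-- The cofree object on the terms of `I`. -/
noncomputable def cofree : SimplexCategory ⥤ A where
  obj n := ∏ᶜ fun p : Σ k : ℕ, (n ⟶ ⦋k⦌) => I.obj ⦋p.1⦌
  map {n m} f := Pi.lift fun p : Σ k : ℕ, (m ⟶ ⦋k⦌) =>
    Pi.π (fun p : Σ k : ℕ, (n ⟶ ⦋k⦌) => I.obj ⦋p.1⦌) ⟨p.1, f ≫ p.2⟩
  map_id n := Pi.hom_ext _ _ fun p => by
    rw [Pi.lift_π]
    exact (congrArg (fun h : n ⟶ ⦋p.1⦌ => pr I h) (Category.id_comp p.2)).trans (Category.id_comp _).symm
  map_comp {a b c} f g := Pi.hom_ext _ _ fun p => by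
    simp only [Pi.lift_π, Category.assoc]
    exact congrArg (fun h : a ⟶ ⦋p.1⦌ => pr I h) (Category.assoc f g p.2)

/-- The unit. -/
noncomputable def toCofree : I ⟶ cofree I where
  app n := Pi.lift fun p : Σ k : ℕ, (n ⟶ ⦋k⦌) => I.map p.2
  naturality n m f := Pi.hom_ext _ _ fun p => by simp [cofree]

theorem mono_toCofree : Mono (toCofree I) := by
  refine @NatTrans.mono_of_mono_app _ _ _ _ _ _ _ fun n => ?_
  obtain ⟨k, rfl⟩ : ∃ k, n = ⦋k⦌ := ⟨n.len, (SimplexCategory.mk_len n).symm⟩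
  have : IsSplitMono ((toCofree I).app ⦋k⦌) :=
    IsSplitMono.mk' ⟨Pi.π (fun p : Σ j : ℕ, (⦋k⦌ ⟶ ⦋j⦌) => I.obj ⦋p.1⦌) ⟨k, 𝟙 _⟩, by simp [toCofree]⟩
  infer_instance

/-- The cone of a simplex from the first vertex. -/
def coneMap {n k : ℕ} (h : ⦋n⦌ ⟶ ⦋k⦌) : ⦋n + 1⦌ ⟶ ⦋k⦌ :=
  SimplexCategory.Hom.mk
    { toFun := fun i => Fin.cases 0 (fun j => h.toOrderHom j) i
      monotone' := fun i j hij => by
        induction i using Fin.cases with
        | zero => exact Fin.zero_le _
        | succ i =>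
          induction j using Fin.cases with
          | zero => exact absurd hij (by simp)
          | succ j => simpa using h.toOrderHom.monotone (Fin.succ_le_succ_iff.1 hij) }

theorem δ_zero_coneMap {n k : ℕ} (h : ⦋n⦌ ⟶ ⦋k⦌) : SimplexCategory.δ 0 ≫ coneMap h = h := by
  refine SimplexCategory.Hom.ext _ _ (OrderHom.ext _ _ (funext fun (i : Fin (n + 1)) => ?_))
  rfl

theorem δ_succ_coneMap {n k : ℕ} (h : ⦋n + 1⦌ ⟶ ⦋k⦌) (i : Fin (n + 2)) :
    SimplexCategory.δ i.succ ≫ coneMap h = coneMap (SimplexCategory.δ i ≫ h) := by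
  refine SimplexCategory.Hom.ext _ _ (OrderHom.ext _ _ (funext fun (j : Fin (n + 2)) => ?_))
  change Fin.cases (motive := fun _ => Fin (k + 1)) 0 (fun j => h.toOrderHom j) (i.succ.succAbove j) =
    Fin.cases (motive := fun _ => Fin (k + 1)) 0 (fun l => h.toOrderHom (i.succAbove l)) j
  induction j using Fin.cases with
  | zero => simp
  | succ j => rw [Fin.succ_succAbove_succ, Fin.cases_succ, Fin.cases_succ]

/-- The extra codegeneracy. -/
noncomputable def extra (n : ℕ) : (cx (cofree I)).X (n + 1) ⟶ (cx (cofree I)).X n :=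
  Pi.lift fun p : Σ k : ℕ, (⦋n⦌ ⟶ ⦋k⦌) =>
    Pi.π (fun p : Σ k : ℕ, (⦋n + 1⦌ ⟶ ⦋k⦌) => I.obj ⦋p.1⦌) ⟨p.1, coneMap p.2⟩

theorem cofree_homotopy (n : ℕ) :
    extra I n ≫ (cx (cofree I)).d n (n + 1) + (cx (cofree I)).d (n + 1) (n + 2) ≫ extra I (n + 1) = 𝟙 _ := by
  rw [cx_d, cx_d]
  refine Pi.hom_ext _ _ fun p => ?_
  obtain ⟨k, h⟩ := p
  simp only [Preadditive.comp_sum, Preadditive.sum_comp, Preadditive.add_comp, Preadditive.comp_zsmul,
    Preadditive.zsmul_comp, Category.id_comp, cofree, extra, Pi.lift_π, Category.assoc]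
  rw [Fin.sum_univ_succ (n := n + 2)]
  simp only [Fin.val_zero, pow_zero, one_smul, Fin.val_succ, pow_succ, mul_neg, mul_one, neg_smul,
    Finset.sum_neg_distrib]
  have h0 : pr I (SimplexCategory.δ (0 : Fin (n + 3)) ≫ coneMap h) = pr I h :=
    congrArg (fun t : ⦋n + 1⦌ ⟶ ⦋k⦌ => pr I t) (δ_zero_coneMap h)
  have hs : ∀ x : Fin (n + 2), pr I (SimplexCategory.δ x.succ ≫ coneMap h) =
      pr I (coneMap (SimplexCategory.δ x ≫ h)) := fun x =>
    congrArg (fun t : ⦋n + 1⦌ ⟶ ⦋k⦌ => pr I t) (δ_succ_coneMap h x)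
  simp only [pr] at h0 hs
  simp only [h0, hs]
  abel

theorem exactAt_of_injective [Injective I] (n : ℕ) : (cx I).ExactAt (n + 1) := by
  have := mono_toCofree I
  obtain ⟨r, hr⟩ : ∃ r : cofree I ⟶ I, toCofree I ≫ r = 𝟙 I :=
    ⟨Injective.factorThru (𝟙 I) (toCofree I), Injective.comp_factorThru _ _⟩
  rw [(cx I).exactAt_iff' n (n + 1) (n + 2) (by simp) (by simp), ShortComplex.exact_iff_exact_up_to_refinements]
  intro W (x : W ⟶ (cx I).X (n + 1)) (hx : x ≫ (cx I).d (n + 1) (n + 2) = 0)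
  let u := (alternatingCofaceMapComplex A).map (toCofree I)
  let v := (alternatingCofaceMapComplex A).map r
  have huv : u.f (n + 1) ≫ v.f (n + 1) = 𝟙 _ := by
    rw [← HomologicalComplex.comp_f, ← Functor.map_comp, hr, CategoryTheory.Functor.map_id]
    rfl
  refine ⟨W, 𝟙 W, inferInstance, (x ≫ u.f (n + 1)) ≫ extra I n ≫ v.f n, ?_⟩
  change 𝟙 W ≫ x = ((x ≫ u.f (n + 1)) ≫ extra I n ≫ v.f n) ≫ (cx I).d n (n + 1)
  rw [Category.id_comp, Category.assoc, Category.assoc, Category.assoc, v.comm n (n + 1)]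
  have h := congrArg (fun g => x ≫ u.f (n + 1) ≫ g ≫ v.f (n + 1)) (cofree_homotopy I n)
  simp only [Preadditive.add_comp, Preadditive.comp_add, Category.assoc] at h
  erw [Category.id_comp] at h
  rw [huv, Category.comp_id] at h
  refine h.symm.trans ?_
  have h2 : x ≫ u.f (n + 1) ≫ (cx (cofree I)).d (n + 1) (n + 2) = 0 := by
    rw [u.comm (n + 1) (n + 2), ← Category.assoc, hx, zero_comp]
  rw [show x ≫ u.f (n + 1) ≫ (cx (cofree I)).d (n + 1) (n + 2) ≫ extra I (n + 1) ≫ v.f (n + 1) = 0 by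
    rw [reassoc_of% h2, zero_comp], add_zero]

end Cofree

section Zero

variable [HasLimitsOfShape SimplexCategory A] (F : SimplexCategory ⥤ A)

/-- The augmentation. -/
noncomputable def augC : limit F ⟶ (cx F).cycles 0 :=
  (cx F).liftCycles (limit.π F ⦋0⦌) 1 (by simp) (by
    rw [cx_d]
    simp [Fin.sum_univ_two, limit.w])

theorem isIso_augC : IsIso (augC F) := by
  let v : ∀ {n : SimplexCategory} (_ : Fin (n.len + 1)), ⦋0⦌ ⟶ n := fun {n} i => SimplexCategory.const ⦋0⦌ n i
  rw [augC, CochainComplex.isIso_liftCycles_iff]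
  constructor
  · rw [ShortComplex.exact_iff_exact_up_to_refinements]
    intro W (g : W ⟶ F.obj ⦋0⦌) (hg : g ≫ (cx F).d 0 1 = 0)
    have hg' : g ≫ F.map (SimplexCategory.δ (0 : Fin 2)) = g ≫ F.map (SimplexCategory.δ 1) := by
      rw [cx_d, Fin.sum_univ_two] at hg
      simpa [sub_eq_zero, Preadditive.comp_add, ← sub_eq_add_neg] using hg
    have hv : ∀ {n : SimplexCategory} (i j : Fin (n.len + 1)), g ≫ F.map (v i) = g ≫ F.map (v j) := by
      intro n i j
      wlog h : i ≤ j generalizing i j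
      · exact (this j i (le_of_not_ge h)).symm
      let e : ⦋1⦌ ⟶ n := SimplexCategory.mkOfLe i j h
      have hi : SimplexCategory.δ (1 : Fin 2) ≫ e = v i := by
        refine SimplexCategory.Hom.ext _ _ (OrderHom.ext _ _ (funext fun (l : Fin 1) => ?_))
        obtain rfl := Subsingleton.elim l 0
        rfl
      have hj : SimplexCategory.δ (0 : Fin 2) ≫ e = v j := by
        refine SimplexCategory.Hom.ext _ _ (OrderHom.ext _ _ (funext fun (l : Fin 1) => ?_))
        obtain rfl := Subsingleton.elim l 0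
        rfl
      rw [← hi, ← hj, F.map_comp, F.map_comp, reassoc_of% hg']
    let π : (Functor.const SimplexCategory).obj W ⟶ F :=
      { app := fun n => g ≫ F.map (v (0 : Fin (n.len + 1)))
        naturality := fun n m f => ?_ }
    refine ⟨W, 𝟙 W, inferInstance, limit.lift F ⟨W, π⟩, ?_⟩
    rotate_left
    · refine (Category.id_comp _).trans ?_
      rw [Category.assoc, ← F.map_comp]
      exact (hv _ (f.toOrderHom 0)).trans (congrArg (fun t => g ≫ F.map t) (SimplexCategory.const_comp _ f 0).symm)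
    · change 𝟙 W ≫ g = limit.lift F ⟨W, π⟩ ≫ limit.π F ⦋0⦌
      rw [Category.id_comp]
      refine Eq.trans ?_ (limit.lift_π ⟨W, π⟩ ⦋0⦌).symm
      change g = g ≫ F.map (v 0)
      rw [show v (0 : Fin 1) = 𝟙 ⦋0⦌ from SimplexCategory.Hom.ext _ _ (OrderHom.ext _ _ (funext fun (l : Fin 1) =>
        Subsingleton.elim (α := Fin 1) _ _)), F.map_id, Category.comp_id]
  · refine ⟨fun {W} a b h => limit.hom_ext fun n => ?_⟩
    have h' : a ≫ limit.π F ⦋0⦌ = b ≫ limit.π F ⦋0⦌ := h
    rw [← limit.w F (v (0 : Fin (n.len + 1))), reassoc_of% h']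

theorem augC_natural {F G : SimplexCategory ⥤ A} (f : F ⟶ G) :
    limMap f ≫ augC G = augC F ≫ HomologicalComplex.cyclesMap ((alternatingCofaceMapComplex A).map f) 0 := by
  rw [← cancel_mono ((cx G).iCycles 0), Category.assoc, Category.assoc, HomologicalComplex.cyclesMap_i,
    augC, augC, HomologicalComplex.liftCycles_i, HomologicalComplex.liftCycles_i_assoc, limMap_π]
  rfl

variable (A) in
/-- `H⁰` of the coface complex is the limit. -/
noncomputable def zeroIso :
    (lim : (SimplexCategory ⥤ A) ⥤ A) ≅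
      alternatingCofaceMapComplex A ⋙ HomologicalComplex.homologyFunctor A (ComplexShape.up ℕ) 0 :=
  NatIso.ofComponents
    (fun F => (have := isIso_augC F; asIso (augC F)) ≪≫ CochainComplex.isoHomologyπ₀ (cx F))
    (fun {F G} f => by
      change limMap f ≫ augC G ≫ (cx G).homologyπ 0 = (augC F ≫ (cx F).homologyπ 0) ≫ _
      rw [← Category.assoc, augC_natural, Category.assoc, Category.assoc]
      congr 1
      exact (HomologicalComplex.homologyπ_naturality _ 0).symm)

end Zero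

variable [HasLimitsOfShape SimplexCategory A]
  [∀ n : SimplexCategory, HasProductsOfShape (Σ k : ℕ, (n ⟶ ⦋k⦌)) A]
  [EnoughInjectives (SimplexCategory ⥤ A)] [(lim : (SimplexCategory ⥤ A) ⥤ A).Additive]

theorem nonempty_rightDerived_lim_iso (n : ℕ) :
    ∀ F : SimplexCategory ⥤ A,
      Nonempty (((lim : (SimplexCategory ⥤ A) ⥤ A).rightDerived n).obj F ≅ (cx F).homology n) := by
  let L : (SimplexCategory ⥤ A) ⥤ A := lim
  have : PreservesLimitsOfSize.{0, 0} L := constLimAdj.rightAdjoint_preservesLimits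
  have : PreservesFiniteLimits L := inferInstance
  obtain ⟨les⟩ := RDerLES.nonempty_derivedLES L
  let T : (SimplexCategory ⥤ A) ⥤ CochainComplex A ℕ := alternatingCofaceMapComplex A
  let e₀ : L.rightDerived 0 ≅ T ⋙ HomologicalComplex.homologyFunctor A (ComplexShape.up ℕ) 0 :=
    L.rightDerivedZeroIsoSelf ≪≫ zeroIso A
  induction n with
  | zero => exact fun F => ⟨e₀.app F⟩
  | succ n ih =>
    intro F
    let ι : F ⟶ Injective.under F := Injective.ι F
    let S := ShortComplex.mk ι (cokernel.π ι) (cokernel.condition ι)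
    have hS : S.ShortExact := { exact := ShortComplex.exact_of_g_is_cokernel _ (cokernelIsCokernel ι) }
    let ST : ShortComplex (CochainComplex A ℕ) := ShortComplex.mk (T.map S.f) (T.map S.g) (by
      ext i
      exact congrArg (fun t => t.app ⦋i⦌) S.zero)
    have hST : ST.ShortExact := HomologicalComplex.shortExact_of_degreewise_shortExact _ fun i =>
      hS.map_of_exact ((evaluation SimplexCategory A).obj ⦋i⦌)
    have hI : Injective S.X₂ := Injective.injective_under F
    have hz : ∀ i, IsZero (ST.X₂.homology (i + 1)) := fun i =>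
      (exactAt_of_injective S.X₂ i).isZero_homology
    have hzR : ∀ i, IsZero ((L.rightDerived (i + 1)).obj S.X₂) := fun i =>
      L.isZero_rightDerived_obj_injective_succ i _
    cases n with
    | zero =>
      have h1 : Epi (les.δ S hS 0 1 rfl) := (les.exact₁ S hS 0 1 rfl).epi_f ((hzR 0).eq_of_tgt _ _)
      have h2 : Epi (hST.δ 0 1 rfl) := (hST.homology_exact₁ 0 1 rfl).epi_f ((hz 0).eq_of_tgt _ _)
      exact ⟨(les.exact₃ S hS 0 1 rfl).gIsCokernel.coconePointUniqueUpToIso (cokernelIsCokernel _) ≪≫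
        cokernel.mapIso ((L.rightDerived 0).map S.g) (HomologicalComplex.homologyMap ST.g 0)
          (e₀.app S.X₂) (e₀.app S.X₃) (e₀.hom.naturality S.g) ≪≫
        (cokernelIsCokernel _).coconePointUniqueUpToIso (hST.homology_exact₃ 0 1 rfl).gIsCokernel⟩
    | succ n =>
      have h1 : IsIso (les.δ S hS (n + 1) (n + 2) rfl) := by
        have : Mono (les.δ S hS (n + 1) (n + 2) rfl) :=
          (les.exact₃ S hS (n + 1) (n + 2) rfl).mono_g ((hzR n).eq_of_src _ _)
        have : Epi (les.δ S hS (n + 1) (n + 2) rfl) :=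
          (les.exact₁ S hS (n + 1) (n + 2) rfl).epi_f ((hzR (n + 1)).eq_of_tgt _ _)
        exact isIso_of_mono_of_epi _
      have h2 : IsIso (hST.δ (n + 1) (n + 2) rfl) := by
        have : Mono (hST.δ (n + 1) (n + 2) rfl) := hST.mono_δ _ _ rfl (hz n)
        have : Epi (hST.δ (n + 1) (n + 2) rfl) :=
          (hST.homology_exact₁ (n + 1) (n + 2) rfl).epi_f ((hz (n + 1)).eq_of_tgt _ _)
        exact isIso_of_mono_of_epi _
      obtain ⟨e⟩ := ih S.X₃
      exact ⟨(asIso (les.δ S hS (n + 1) (n + 2) rfl)).symm ≪≫ e ≪≫ asIso (hST.δ (n + 1) (n + 2) rfl)⟩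

end GrothLib.CosimpLim25
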